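import Groth.Agent.Lib.SemiLoc.Radical
import Mathlib.RingTheory.DiscreteValuationRing.Basic

/-!
# Subrings generating less than the field lie in a common discrete valuation ring
-/

universe u

namespace GrothLib.SemiLoc

open IsLocalRing

variable {K : Type u} [Field K]

lemma exists_dvr_of_sup_ne_top {A : Subring K} (hA : IsOneDim A) (B : Subring K) (h : A ⊔ B ≠ ⊤) :
    ∃ O : ValuationSubring K, IsDiscreteValuationRing O ∧ A ≤ O.toSubring ∧ B ≤ O.toSubring := by
  have := hA.frac; have := hA.noeth; have := hA.dimLE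
  obtain ⟨M, hM⟩ := Ideal.exists_maximal ↥(A ⊔ B)
  obtain ⟨V, hV, hMV⟩ := Ideal.image_subset_nonunits_valuationSubring (A := A ⊔ B) M hM.ne_top
  have hAV : A ≤ V.toSubring := le_sup_left.trans hV
  have hne : V ≠ ⊤ := by
    rintro rfl
    have hbot : M ≠ ⊥ := by
      refine Ring.ne_bot_of_isMaximal_of_not_isField hM fun hf => h ?_
      rw [eq_top_iff]
      intro z _
      obtain ⟨a, b, hb, rfl⟩ := IsFractionRing.div_surjective (A := A) z
      obtain ⟨c, hc⟩ := hf.mul_inv_cancel (a := (⟨(b : K), le_sup_left (b := B) b.2⟩ : ↥(A ⊔ B)))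
        (fun h0 => nonZeroDivisors.ne_zero hb (Subtype.ext (congrArg (fun x : ↥(A ⊔ B) => (x : K)) h0)))
      show (a : K) / (b : K) ∈ A ⊔ B
      rw [div_eq_mul_inv,
        inv_eq_of_mul_eq_one_right (show (b : K) * (c : K) = 1 from congrArg Subtype.val hc)]
      exact mul_mem (le_sup_left (b := B) a.2) c.2
    obtain ⟨y, hy, hy0⟩ := Submodule.exists_mem_ne_zero_of_ne_bot hbot
    obtain ⟨_, hm⟩ := ValuationSubring.mem_nonunits_iff_exists_mem_maximalIdeal.mp (hMV ⟨y, hy, rfl⟩)
    exact (mem_maximalIdeal _).mp hm (isUnit_iff_exists_inv.mpr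
      ⟨⟨(y : K)⁻¹, trivial⟩, Subtype.ext (mul_inv_cancel₀ (fun h0 => hy0 (Subtype.ext h0)))⟩)
  exact ⟨V, GrothLib.DVRDom.isDiscreteValuationRing_valuationSubring (R := A) V (fun r => hAV r.2) hne,
    hAV, le_sup_right.trans hV⟩

lemma ne_top_of_dvr (O : ValuationSubring K) [IsDiscreteValuationRing O] : O.toSubring ≠ ⊤ := by
  intro h
  refine IsDiscreteValuationRing.not_isField O ?_
  exact MulEquiv.isField (Field.toIsField K)
    ((RingEquiv.subringCongr h).trans Subring.topEquiv).toMulEquiv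

lemma isOneDim_of_dvr (O : ValuationSubring K) [IsDiscreteValuationRing O] : IsOneDim O.toSubring :=
  ⟨inferInstanceAs (IsFractionRing O K), inferInstanceAs (IsNoetherianRing O),
    inferInstanceAs (Ring.DimensionLEOne O), IsDiscreteValuationRing.not_isField O⟩

/-- A discrete valuation ring is a maximal proper subring. -/
lemma eq_of_le_of_dvr (B O : ValuationSubring K) [IsDiscreteValuationRing B] [IsDiscreteValuationRing O]
    (h : B.toSubring ≤ O.toSubring) : B = O := by
  refine le_antisymm (fun x hx => h hx) fun z hz => ?_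
  by_contra hzB
  apply ne_top_of_dvr O
  rw [eq_top_iff]
  intro x _
  have hB := isOneDim_of_dvr B
  set t : B := ⟨z⁻¹, (B.mem_or_inv_mem z).resolve_left hzB⟩
  have ht : t ∈ Ideal.jacobson (⊥ : Ideal B) := by
    rw [IsLocalRing.jacobson_eq_maximalIdeal ⊥ bot_ne_top]
    refine (mem_maximalIdeal _).mpr fun hu => hzB ?_
    obtain ⟨v, hv⟩ := hu.exists_right_inv
    rw [← inv_inv z, inv_eq_of_mul_eq_one_right (show z⁻¹ * (v : K) = 1 from congrArg Subtype.val hv)]
    exact v.2
  obtain ⟨a, b, hb, rfl⟩ := IsFractionRing.div_surjective (A := B) x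
  obtain ⟨n, hn⟩ := exists_jacobson_pow_le (nonZeroDivisors.ne_zero hb)
  obtain ⟨d, hd⟩ := Ideal.mem_span_singleton'.mp (hn (Ideal.pow_mem_pow ht n))
  have hd' : (d : K) * (b : K) = (z ^ n)⁻¹ := by
    rw [← inv_pow]
    have := congrArg Subtype.val hd
    simpa [t] using this
  have hb0 : (b : K) ≠ 0 := fun h => nonZeroDivisors.ne_zero hb (Subtype.ext h)
  have hz0 : z ≠ 0 := fun h0 => hzB (h0 ▸ B.zero_mem)
  show (a : K) / (b : K) ∈ O.toSubring
  have : (a : K) / (b : K) = (a : K) * (d : K) * z ^ n := by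
    field_simp
    rw [mul_comm (d : K) (b : K)] at hd'
    calc (a : K) = (a : K) * ((z ^ n)⁻¹ * z ^ n) := by rw [inv_mul_cancel₀ (pow_ne_zero n hz0), mul_one]
      _ = _ := by rw [← hd']; ring
  rw [this]
  exact mul_mem (mul_mem (h a.2) (h d.2)) (pow_mem hz n)

/-- If all units of a semilocal one-dimensional ring lie in a DVR, so does the ring. -/
lemma le_of_units_le {A : Subring K} (hA : IsOneDim A) (hsl : Finite (MaximalSpectrum A))
    (B : ValuationSubring K) [IsDiscreteValuationRing B]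
    (hu : ∀ u : A, IsUnit u → (u : K) ∈ B) : A ≤ B.toSubring := by
  obtain ⟨j, hj, hj0⟩ := hA.exists_mem_ne_zero_jacobson hsl
  have hJ : ∀ x ∈ Ideal.jacobson (⊥ : Ideal A), (x : K) ∈ B := by
    intro x hx
    have h1 : IsUnit (1 + x) := by
      have := Ideal.mem_jacobson_bot.mp hx 1
      rwa [mul_one, add_comm] at this
    have := sub_mem (hu _ h1) B.one_mem
    simpa using this
  intro a ha
  by_contra haB
  have hB := isOneDim_of_dvr B
  have hb0 : (⟨(j : K), hJ j hj⟩ : B.toSubring) ≠ 0 := fun h =>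
    hj0 (Subtype.ext (congrArg (fun x : B.toSubring => (x : K)) h))
  obtain ⟨N, hN⟩ := hB.exists_bound hb0
  have := hN B le_rfl a haB (N + 1) (by
    have := hJ _ (Ideal.mul_mem_right ((⟨a, ha⟩ : A) ^ (N + 1)) _ hj)
    simpa using this)
  omega

end GrothLib.SemiLoc
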