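import Mathlib.RingTheory.KrullDimension.Basic
import Mathlib.RingTheory.KrullDimension.Field
import Mathlib.RingTheory.KrullDimension.NonZeroDivisors
import Mathlib.RingTheory.Ideal.MinimalPrime.Noetherian
import Mathlib.RingTheory.Ideal.MinimalPrime.Localization
import Mathlib.RingTheory.Localization.AtPrime.Basic
import Mathlib.RingTheory.Localization.Away.Basic
import Mathlib.RingTheory.LocalRing.ResidueField.Ideal
import Mathlib.RingTheory.Noetherian.Nilpotent
import Mathlib.Algebra.Group.Pi.Units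

/-!
# One-dimensional Noetherian local rings and their minimal primes
-/

universe u

namespace GrothLib.SemiLoc

open IsLocalRing

variable {A : Type u} [CommRing A]

/-- The minimal primes as an index type. -/
abbrev MinIdx (A : Type u) [CommRing A] : Type u := {p : PrimeSpectrum A // p.asIdeal ∈ minimalPrimes A}

/-- The product of the localizations at minimal primes. -/
abbrev MinProd (A : Type u) [CommRing A] : Type u := ∀ p : MinIdx A, Localization.AtPrime p.1.asIdeal

lemma finite_minIdx [IsNoetherianRing A] : Finite (MinIdx A) := by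
  have := (minimalPrimes.finite_of_isNoetherianRing A).to_subtype
  exact Finite.of_injective (fun p : MinIdx A => (⟨p.1.asIdeal, p.2⟩ : minimalPrimes A))
    fun a b h => Subtype.ext (PrimeSpectrum.ext (congrArg Subtype.val h :))

lemma notMem_minimal_of_ne {p q : MinIdx A} (h : p ≠ q) : ∃ c ∈ q.1.asIdeal, c ∉ p.1.asIdeal := by
  by_contra! hc
  have hle : q.1.asIdeal ≤ p.1.asIdeal := hc
  exact h (Subtype.ext (PrimeSpectrum.ext (le_antisymm (p.2.2 ⟨q.1.isPrime, bot_le⟩ hle) hle)))

lemma isNilpotent_map_of_mem (p : MinIdx A) {c : A} (hc : c ∈ p.1.asIdeal) :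
    IsNilpotent (algebraMap A (Localization.AtPrime p.1.asIdeal) c) := by
  have h : algebraMap A (Localization.AtPrime p.1.asIdeal) c ∈
      nilradical (Localization.AtPrime p.1.asIdeal) := by
    rw [nilradical_eq_sInf, Submodule.mem_sInf]
    intro P hP
    have hP : Ideal.IsPrime P := hP
    have hle : Ideal.comap (algebraMap A (Localization.AtPrime p.1.asIdeal)) P ≤ p.1.asIdeal := by
      refine (Ideal.comap_mono (le_maximalIdeal hP.ne_top)).trans (le_of_eq ?_)
      exact IsLocalization.AtPrime.under_maximalIdeal (Localization.AtPrime p.1.asIdeal) p.1.asIdeal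
    exact Ideal.mem_comap.mp (p.2.2 ⟨Ideal.IsPrime.comap _, bot_le⟩ hle hc)
  exact h

variable [IsNoetherianRing A]

/-- Orthogonal elements. -/
lemma exists_separator (p : MinIdx A) : ∃ e : A, e ∉ p.1.asIdeal ∧
    ∀ q : MinIdx A, q ≠ p → algebraMap A (Localization.AtPrime q.1.asIdeal) e = 0 := by
  classical
  have := finite_minIdx (A := A)
  have := Fintype.ofFinite (MinIdx A)
  choose c hcq hcp using fun q : {q : MinIdx A // q ≠ p} => notMem_minimal_of_ne (Ne.symm q.2)
  choose n hn using fun q : {q : MinIdx A // q ≠ p} => isNilpotent_map_of_mem q.1 (hcq q)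
  refine ⟨∏ q : {q : MinIdx A // q ≠ p}, c q ^ n q, fun h => ?_, fun q hq => ?_⟩
  · obtain ⟨q, -, hq⟩ := Ideal.IsPrime.prod_mem_iff.mp h
    exact hcp q (p.1.isPrime.mem_of_pow_mem _ hq)
  · rw [map_prod]
    refine Finset.prod_eq_zero (Finset.mem_univ (⟨q, hq⟩ : {q : MinIdx A // q ≠ p})) ?_
    rw [map_pow, hn ⟨q, hq⟩]

/-- Every element of the product has a denominator outside all minimal primes. -/
lemma exists_denom (z : MinProd A) : ∃ c : A, (∀ p ∈ minimalPrimes A, c ∉ p) ∧
    ∃ u : A, algebraMap A (MinProd A) c * z = algebraMap A (MinProd A) u := by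
  classical
  have := finite_minIdx (A := A)
  have := Fintype.ofFinite (MinIdx A)
  choose e he he0 using fun p : MinIdx A => exists_separator p
  choose us hus using fun p : MinIdx A => IsLocalization.surj p.1.asIdeal.primeCompl (z p)
  refine ⟨∑ p, e p * (us p).2, fun P hP h => ?_, ∑ p, e p * (us p).1, funext fun q => ?_⟩
  · let q : MinIdx A := ⟨⟨P, hP.1.1⟩, hP⟩
    have hqp : q.1.asIdeal.IsPrime := q.1.isPrime
    rw [← Finset.add_sum_erase _ _ (Finset.mem_univ q)] at h
    have hrest : ∑ p ∈ Finset.univ.erase q, e p * (us p).2 ∈ P := by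
      refine sum_mem fun p hp => Ideal.mul_mem_right _ _ ?_
      by_contra hne
      have := IsLocalization.map_units (Localization.AtPrime q.1.asIdeal) (⟨e p, hne⟩ : q.1.asIdeal.primeCompl)
      simp only at this
      rw [he0 p q (Ne.symm (Finset.ne_of_mem_erase hp))] at this
      exact not_isUnit_zero this
    rcases hP.1.1.mem_or_mem ((Ideal.add_mem_iff_left _ hrest).mp h) with h' | h'
    · exact he q h'
    · exact (us q).2.2 h'
  · simp only [Pi.mul_apply, map_sum, Finset.sum_apply, map_mul, Pi.algebraMap_apply]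
    rw [Finset.sum_mul]
    refine Finset.sum_congr rfl fun p _ => ?_
    rcases eq_or_ne q p with rfl | hne
    · rw [mul_assoc, mul_comm (algebraMap A _ ((us q).2 : A)), hus q]
    · rw [he0 p q hne]; simp

variable [IsLocalRing A]

/-- An ideal outside all minimal primes contains a power of the maximal ideal. -/
lemma exists_pow_le (hdim : ringKrullDim A = 1) (I : Ideal A) (hI : ∀ p ∈ minimalPrimes A, ¬ I ≤ p) :
    ∃ n : ℕ, maximalIdeal A ^ n ≤ I := by
  have : Ring.KrullDimLE 1 A := Ring.krullDimLE_iff.mpr (by rw [hdim]; simp)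
  have hrad : maximalIdeal A ≤ I.radical := by
    rw [Ideal.radical_eq_sInf]
    refine le_sInf ?_
    rintro P ⟨hIP, hP⟩
    rcases Ring.krullDimLE_one_iff.mp this P hP with h | h
    · exact absurd hIP (hI P h)
    · exact (eq_maximalIdeal h).ge
  obtain ⟨n, hn⟩ := I.exists_radical_pow_le_of_fg (IsNoetherian.noetherian _)
  exact ⟨n, (Ideal.pow_right_mono hrad n).trans hn⟩

omit [IsNoetherianRing A] in
lemma maximalIdeal_notMem_minimal (hdim : ringKrullDim A = 1) : maximalIdeal A ∉ minimalPrimes A := by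
  intro h
  have : Ring.KrullDimLE 0 A := Ring.krullDimLE_zero_iff.mpr fun P hP => by
    have hle := le_maximalIdeal hP.ne_top
    rw [le_antisymm hle (h.2 ⟨hP, bot_le⟩ hle)]
    exact maximalIdeal.isMaximal A
  have := (Ring.krullDimLE_iff (n := 0) (R := A)).mp this
  rw [hdim] at this
  exact absurd this (by simp)

lemma exists_notMem_minimal (hdim : ringKrullDim A = 1) :
    ∃ f ∈ maximalIdeal A, ∀ p ∈ minimalPrimes A, f ∉ p := by
  classical
  by_contra! h
  let s := (minimalPrimes.finite_of_isNoetherianRing A).toFinset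
  have hsub : (maximalIdeal A : Set A) ⊆ ⋃ p ∈ (s : Set (Ideal A)), (id p : Ideal A) := by
    intro f hf
    obtain ⟨p, hp, hfp⟩ := h f hf
    exact Set.mem_biUnion (by simpa [s] using hp) hfp
  obtain ⟨p, hp, hle⟩ := (Ideal.subset_union_prime (f := id) ⊥ ⊥ (fun i hi _ _ =>
    (show i ∈ minimalPrimes A by simpa [s] using hi).1.1)).mp hsub
  have hp' : p ∈ minimalPrimes A := by simpa [s] using hp
  exact maximalIdeal_notMem_minimal hdim
    (le_antisymm (le_maximalIdeal hp'.1.1.ne_top) hle ▸ hp')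

lemma exists_pow_mem_range (hdim : ringKrullDim A = 1) (z : MinProd A) :
    ∃ n : ℕ, ∀ x ∈ maximalIdeal A ^ n,
      algebraMap A (MinProd A) x * z ∈ (algebraMap A (MinProd A)).range := by
  obtain ⟨c, hc, u, hu⟩ := exists_denom z
  obtain ⟨n, hn⟩ := exists_pow_le hdim (Ideal.span {c})
    fun p hp h => hc p hp (h (Ideal.mem_span_singleton_self c))
  refine ⟨n, fun x hx => ?_⟩
  obtain ⟨d, rfl⟩ := Ideal.mem_span_singleton'.mp (hn hx)
  exact ⟨d * u, by rw [map_mul, map_mul, mul_assoc, hu]⟩

lemma exists_pow_mul_eq_zero (hdim : ringKrullDim A = 1) {d : A}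
    (h : algebraMap A (MinProd A) d = 0) : ∃ n : ℕ, ∀ x ∈ maximalIdeal A ^ n, x * d = 0 := by
  obtain ⟨n, hn⟩ := exists_pow_le hdim (LinearMap.ker (LinearMap.mulRight A d)) (by
    intro p hp hle
    have := hp.1.1
    obtain ⟨⟨s, hs⟩, hsd⟩ := (IsLocalization.map_eq_zero_iff p.primeCompl
      (Localization.AtPrime p) d).mp (congrFun h ⟨⟨p, hp.1.1⟩, hp⟩)
    exact hs (hle hsd))
  exact ⟨n, fun x hx => hn hx⟩

lemma isNilpotent_of_map_eq_zero {d : A} (h : algebraMap A (MinProd A) d = 0) : IsNilpotent d := by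
  rw [← mem_nilradical, nilradical_eq_sInf, Submodule.mem_sInf]
  intro P hP
  have hP : Ideal.IsPrime P := hP
  obtain ⟨q, hq, hqP⟩ := Ideal.exists_minimalPrimes_le (I := (⊥ : Ideal A)) (J := P) bot_le
  refine hqP ?_
  let Q : MinIdx A := ⟨⟨q, hq.1.1⟩, hq⟩
  have hQp : Q.1.asIdeal.IsPrime := Q.1.isPrime
  by_contra hd
  have := IsLocalization.map_units (Localization.AtPrime Q.1.asIdeal) (⟨d, hd⟩ : Q.1.asIdeal.primeCompl)
  simp only at this
  rw [show algebraMap A (Localization.AtPrime Q.1.asIdeal) d = 0 from congrFun h Q] at this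
  exact not_isUnit_zero this

omit [IsNoetherianRing A] [IsLocalRing A] in
lemma isUnit_map {f : A} (hf : ∀ p ∈ minimalPrimes A, f ∉ p) : IsUnit (algebraMap A (MinProd A) f) := by
  rw [Pi.isUnit_iff]
  exact fun p => IsLocalization.map_units (Localization.AtPrime p.1.asIdeal)
    (⟨f, hf _ p.2⟩ : p.1.asIdeal.primeCompl)

lemma isLocalization_away (hdim : ringKrullDim A = 1) {f : A} (hfm : f ∈ maximalIdeal A)
    (hf : ∀ p ∈ minimalPrimes A, f ∉ p) : IsLocalization.Away f (MinProd A) := by
  refine (isLocalization_iff _ _).mpr ⟨?_, ?_, ?_⟩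
  · rintro ⟨_, n, rfl⟩
    rw [map_pow]
    exact (isUnit_map hf).pow n
  · intro z
    obtain ⟨n, hn⟩ := exists_pow_mem_range hdim z
    obtain ⟨u, hu⟩ := hn _ (Ideal.pow_mem_pow hfm n)
    exact ⟨⟨u, ⟨f ^ n, n, rfl⟩⟩, by rw [hu, mul_comm]⟩
  · intro x y h
    obtain ⟨n, hn⟩ := exists_pow_mul_eq_zero hdim (d := x - y) (by rw [map_sub, h, sub_self])
    exact ⟨⟨f ^ n, n, rfl⟩, sub_eq_zero.mp (by rw [← mul_sub]; exact hn _ (Ideal.pow_mem_pow hfm n))⟩

end GrothLib.SemiLoc
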