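import Groth.Agent.Lib.SemiLoc.Radical
import Mathlib.AlgebraicGeometry.OpenImmersion
import Mathlib.Algebra.Category.Ring.Constructions
import Mathlib.RingTheory.Localization.Finiteness
import Mathlib.RingTheory.Localization.LocalizationLocalization

/-!
# Gluing one-dimensional semilocal subrings of a field
-/

universe u

namespace GrothLib.SemiLoc

open IsLocalRing AlgebraicGeometry CategoryTheory

variable {K : Type u} [Field K]

/-- Data of finitely many pairwise generating semilocal subrings and their intersection. -/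
structure Glue (ι : Type*) (K : Type u) [Field K] where
  A : ι → Subring K
  R : Subring K
  mem_iff : ∀ x, x ∈ R ↔ ∀ i, x ∈ A i
  oneDim : ∀ i, IsOneDim (A i)
  semilocal : ∀ i, Finite (MaximalSpectrum (A i))
  gen : ∀ i j, i ≠ j → A i ⊔ A j = ⊤

namespace Glue

variable {ι : Type*} [Finite ι] (G : Glue ι K)

omit [Finite ι] in
lemma le (i : ι) : G.R ≤ G.A i := fun x hx => (G.mem_iff x).mp hx i

/-- The inclusion. -/
def incl (i : ι) : G.R →+* G.A i := Subring.inclusion (G.le i)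

@[simp] lemma coe_incl (i : ι) (x : G.R) : (G.incl i x : K) = (x : K) := rfl

lemma exists_sep (i : ι) : ∃ w : G.R, IsUnit (G.incl i w) ∧
    ∀ j, j ≠ i → G.incl j w ∈ Ideal.jacobson (⊥ : Ideal (G.A j)) := by
  obtain ⟨w, hw, hb⟩ := exists_unit_mem_jacobson (fun j : {j // j ≠ i} => G.A j.1) (G.oneDim i)
    (fun j => G.oneDim j.1) (G.semilocal i) (fun j => G.semilocal j.1)
    (fun j => G.gen i j.1 (Ne.symm j.2))
  have hmem : (w : K) ∈ G.R := (G.mem_iff _).mpr fun j => by
    rcases eq_or_ne j i with rfl | hne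
    · exact w.2
    · obtain ⟨b, -, hbw⟩ := hb ⟨j, hne⟩
      exact hbw ▸ b.2
  refine ⟨⟨w, hmem⟩, hw, fun j hne => ?_⟩
  obtain ⟨b, hbJ, hbw⟩ := hb ⟨j, hne⟩
  rwa [show G.incl j ⟨w, hmem⟩ = b from Subtype.ext hbw.symm]

/-- The separating element. -/
noncomputable def w (i : ι) : G.R := (G.exists_sep i).choose

lemma isUnit_w (i : ι) : IsUnit (G.incl i (G.w i)) := (G.exists_sep i).choose_spec.1

lemma w_mem {i j : ι} (h : j ≠ i) : G.incl j (G.w i) ∈ Ideal.jacobson (⊥ : Ideal (G.A j)) :=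
  (G.exists_sep i).choose_spec.2 j h

lemma span_w [Nonempty ι] : Ideal.span (Set.range G.w) = ⊤ := by
  classical
  have := Fintype.ofFinite ι
  let s : G.R := ∑ i, G.w i
  have hs : ∀ j, IsUnit (G.incl j s) := by
    intro j
    obtain ⟨u, hu⟩ := G.isUnit_w j
    have hsum : G.incl j s = (u : G.A j) * (1 + (u⁻¹ : (G.A j)ˣ) *
        ∑ i ∈ Finset.univ.erase j, G.incl j (G.w i)) := by
      rw [mul_add, mul_one, ← mul_assoc, Units.mul_inv, one_mul, hu,
        Finset.add_sum_erase _ (fun i => G.incl j (G.w i)) (Finset.mem_univ j), map_sum]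
    rw [hsum]
    refine u.isUnit.mul ?_
    have hmem : ∑ i ∈ Finset.univ.erase j, G.incl j (G.w i) ∈ Ideal.jacobson (⊥ : Ideal (G.A j)) :=
      Ideal.sum_mem _ fun i hi => G.w_mem (Ne.symm (Finset.ne_of_mem_erase hi))
    have := Ideal.mem_jacobson_bot.mp (Ideal.mul_mem_left _ ((u⁻¹ : (G.A j)ˣ) : G.A j) hmem) 1
    rwa [mul_one, add_comm] at this
  have hinv : (s : K)⁻¹ ∈ G.R := (G.mem_iff _).mpr fun j => by
    obtain ⟨v, hv⟩ := (hs j).exists_right_inv
    rw [inv_eq_of_mul_eq_one_right (show (s : K) * (v : K) = 1 from congrArg Subtype.val hv)]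
    exact v.2
  obtain ⟨i₀⟩ := ‹Nonempty ι›
  have hs0 : (s : K) ≠ 0 := fun h => (hs i₀).ne_zero (Subtype.ext h)
  refine Ideal.eq_top_of_isUnit_mem _ (Ideal.sum_mem _ fun i _ => Ideal.subset_span ⟨i, rfl⟩)
    (isUnit_iff_exists_inv.mpr ⟨⟨_, hinv⟩, Subtype.ext (mul_inv_cancel₀ hs0)⟩)

lemma exists_mul_pow_mem {i : ι} (x : K) (hx : x ∈ G.A i) :
    ∃ n : ℕ, x * (G.w i : K) ^ n ∈ G.R := by
  classical
  have := Fintype.ofFinite ι
  have h : ∀ j, ∃ n : ℕ, ∀ m, n ≤ m → x * (G.w i : K) ^ m ∈ G.A j := by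
    intro j
    rcases eq_or_ne j i with rfl | hne
    · exact ⟨0, fun m _ => mul_mem hx (pow_mem (G.incl j (G.w j)).2 m)⟩
    · have := (G.oneDim j).frac; have := (G.oneDim j).noeth; have := (G.oneDim j).dimLE
      obtain ⟨a, b, hb, hab⟩ := IsFractionRing.div_surjective (A := G.A j) x
      obtain ⟨n, hn⟩ := exists_jacobson_pow_le (nonZeroDivisors.ne_zero hb)
      refine ⟨n, fun m hm => ?_⟩
      obtain ⟨d, hd⟩ := Ideal.mem_span_singleton'.mp
        (hn (Ideal.pow_le_pow_right hm (Ideal.pow_mem_pow (G.w_mem hne) m)))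
      have hd' : (d : K) * (b : K) = (G.w i : K) ^ m := by
        have := congrArg Subtype.val hd
        simpa using this
      rw [← hab, ← hd']
      show (a : K) / (b : K) * ((d : K) * (b : K)) ∈ G.A j
      have hb0 : (b : K) ≠ 0 := fun h => nonZeroDivisors.ne_zero hb (Subtype.ext h)
      rw [show (a : K) / (b : K) * ((d : K) * (b : K)) = (a : K) * (d : K) by field_simp]
      exact mul_mem a.2 d.2
  choose n hn using h
  exact ⟨Finset.univ.sup n, (G.mem_iff _).mpr fun j => hn j _ (Finset.le_sup (Finset.mem_univ j))⟩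

lemma isLocalization (i : ι) :
    let := (G.incl i).toAlgebra; IsLocalization.Away (G.w i) (G.A i) := by
  let := (G.incl i).toAlgebra
  refine (isLocalization_iff _ _).mpr ⟨?_, ?_, ?_⟩
  · rintro ⟨_, n, rfl⟩
    show IsUnit (G.incl i (G.w i ^ n))
    rw [map_pow]; exact (G.isUnit_w i).pow n
  · intro z
    obtain ⟨n, hn⟩ := G.exists_mul_pow_mem (z : K) z.2
    refine ⟨⟨⟨_, hn⟩, ⟨G.w i ^ n, n, rfl⟩⟩, Subtype.ext ?_⟩
    show (z : K) * ((G.w i : K) ^ n) = _
    rfl
  · intro x y h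
    exact ⟨1, by
      rw [show x = y from Subtype.ext (congrArg (fun z : G.A i => (z : K)) h)]⟩

lemma isFractionRing [Nonempty ι] : IsFractionRing G.R K := by
  obtain ⟨i⟩ := ‹Nonempty ι›
  let := (G.incl i).toAlgebra
  have := G.isLocalization i
  have : FaithfulSMul G.R K := (faithfulSMul_iff_algebraMap_injective G.R K).mpr Subtype.val_injective
  refine IsFractionRing.of_field G.R K fun z => ?_
  have := (G.oneDim i).frac
  obtain ⟨a, b, hb, rfl⟩ := IsFractionRing.div_surjective (A := G.A i) z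
  obtain ⟨n, hn⟩ := G.exists_mul_pow_mem (a : K) a.2
  obtain ⟨m, hm⟩ := G.exists_mul_pow_mem (b : K) b.2
  have hw : ((G.w i : K)) ≠ 0 := fun h =>
    (G.oneDim i).notField.elim (absurd (G.isUnit_w i) (by
      rw [show G.incl i (G.w i) = 0 from Subtype.ext h]
      exact not_isUnit_zero))
  refine ⟨⟨_, hn⟩ * G.w i ^ m, ⟨_, hm⟩ * G.w i ^ n, ?_⟩
  show (a : K) / (b : K) =
    ((a : K) * (G.w i : K) ^ n * (G.w i : K) ^ m) / ((b : K) * (G.w i : K) ^ m * (G.w i : K) ^ n)
  symm
  rw [mul_assoc, mul_assoc, mul_comm ((G.w i : K) ^ n), mul_div_mul_right]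
  exact mul_ne_zero (pow_ne_zero _ hw) (pow_ne_zero _ hw)

lemma isOpenImmersion (i : ι) : IsOpenImmersion (Spec.map (CommRingCat.ofHom (G.incl i))) := by
  let := (G.incl i).toAlgebra
  have := G.isLocalization i
  exact IsOpenImmersion.of_isLocalization (S := G.A i) (G.w i)

lemma range_eq (i : ι) :
    Set.range (Spec.map (CommRingCat.ofHom (G.incl i))).base =
      {p : PrimeSpectrum G.R | G.w i ∉ p.asIdeal} := by
  let := (G.incl i).toAlgebra
  have := G.isLocalization i
  exact PrimeSpectrum.localization_away_comap_range (G.A i) (G.w i)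

lemma exists_notMem [Nonempty ι] (p : Ideal G.R) [hp : p.IsPrime] : ∃ i, G.w i ∉ p := by
  by_contra! h
  exact hp.ne_top (top_le_iff.mp (G.span_w.ge.trans (Ideal.span_le.mpr (Set.range_subset_iff.mpr h))))

lemma iUnion_range [Nonempty ι] : (⋃ i, Set.range (Spec.map (CommRingCat.ofHom (G.incl i))).base) = Set.univ := by
  refine Set.eq_univ_of_forall fun p => ?_
  obtain ⟨i, hi⟩ := G.exists_notMem (p : PrimeSpectrum G.R).asIdeal
  exact Set.mem_iUnion.mpr ⟨i, (G.range_eq i).ge hi⟩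

lemma exists_prime_over {i : ι} (p : Ideal G.R) [hp : p.IsPrime] (h : G.w i ∉ p) :
    ∃ P : Ideal (G.A i), P.IsPrime ∧ P.comap (G.incl i) = p := by
  obtain ⟨P, hP⟩ := (G.range_eq i).ge (show (⟨p, hp⟩ : PrimeSpectrum G.R) ∈
    {q : PrimeSpectrum G.R | G.w i ∉ q.asIdeal} from h)
  exact ⟨(P : PrimeSpectrum (G.A i)).asIdeal, (P : PrimeSpectrum (G.A i)).isPrime,
    congrArg PrimeSpectrum.asIdeal hP⟩

lemma map_comap {i : ι} (P : Ideal (G.A i)) : (P.comap (G.incl i)).map (G.incl i) = P := by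
  let := (G.incl i).toAlgebra
  have := G.isLocalization i
  exact IsLocalization.map_under (Submonoid.powers (G.w i)) (G.A i) P

lemma isMaximal_over {i : ι} {p : Ideal G.R} (hp0 : p ≠ ⊥) {P : Ideal (G.A i)} (hP : P.IsPrime)
    (hPp : P.comap (G.incl i) = p) : P.IsMaximal := by
  have := (G.oneDim i).dimLE
  refine hP.isMaximal fun h => hp0 ?_
  rw [← hPp, h, ← RingHom.ker_eq_comap_bot, (RingHom.injective_iff_ker_eq_bot _).mp]
  exact fun x y hxy => Subtype.ext (congrArg (fun z : G.A i => (z : K)) hxy)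

lemma mem_of_notMem {i j : ι} (hne : j ≠ i) (p : Ideal G.R) [p.IsPrime] (hp0 : p ≠ ⊥)
    (h : G.w i ∉ p) : G.w j ∈ p := by
  by_contra hj
  obtain ⟨P, hP, hPp⟩ := G.exists_prime_over (i := j) p hj
  have hmax := G.isMaximal_over hp0 hP hPp
  refine h (hPp ▸ ?_)
  exact Submodule.mem_sInf.mp (G.w_mem hne) _ ⟨bot_le, hmax⟩

lemma dimensionLEOne [Nonempty ι] : Ring.DimensionLEOne G.R := by
  refine ⟨fun {p} hp0 hp => ?_⟩
  obtain ⟨i, hi⟩ := G.exists_notMem p
  obtain ⟨q, hq, hpq⟩ := Ideal.exists_le_maximal p hp.ne_top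
  have hiq : G.w i ∉ q := by
    intro hiq
    obtain ⟨k, hk⟩ := G.exists_notMem q
    have hne : k ≠ i := fun h => hk (h ▸ hiq)
    exact hk (hpq (G.mem_of_notMem hne p hp0 hi))
  obtain ⟨P, hP, hPp⟩ := G.exists_prime_over p hi
  obtain ⟨Q, hQ, hQq⟩ := G.exists_prime_over q hiq
  have hPQ : P ≤ Q := by
    rw [← G.map_comap P, ← G.map_comap Q, hPp, hQq]
    exact Ideal.map_mono hpq
  have := (G.isMaximal_over hp0 hP hPp).eq_of_le hQ.ne_top hPQ
  have heq : p = q := by rw [← hPp, ← hQq, this]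
  exact heq ▸ hq

lemma not_isField [Nonempty ι] : ¬ IsField G.R := by
  obtain ⟨i⟩ := ‹Nonempty ι›
  intro hf
  refine (G.oneDim i).notField ?_
  have hsurj : Function.Surjective (G.incl i) := by
    intro z
    obtain ⟨n, hn⟩ := G.exists_mul_pow_mem (z : K) z.2
    rcases eq_or_ne (G.w i) 0 with h0 | h0
    · exact absurd (G.isUnit_w i) (by rw [h0, map_zero]; exact not_isUnit_zero)
    · obtain ⟨v, hv⟩ := hf.mul_inv_cancel (pow_ne_zero n h0)
      refine ⟨⟨_, hn⟩ * v, Subtype.ext ?_⟩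
      have hv' : (G.w i : K) ^ n * (v : K) = 1 := by simpa using congrArg Subtype.val hv
      show (z : K) * (G.w i : K) ^ n * (v : K) = z
      rw [mul_assoc, hv', mul_one]
  let e : G.R ≃+* G.A i := RingEquiv.ofBijective (G.incl i)
    ⟨fun x y hxy => Subtype.ext (congrArg (fun z : G.A i => (z : K)) hxy), hsurj⟩
  exact MulEquiv.isField hf e.symm.toMulEquiv

lemma isNoetherianRing [Nonempty ι] : IsNoetherianRing G.R := by
  refine (isNoetherianRing_iff_ideal_fg _).mpr fun I => ?_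
  refine Ideal.fg_of_localizationSpan (Set.range G.w) G.span_w ?_
  rintro ⟨_, i, rfl⟩
  let := (G.incl i).toAlgebra
  have := G.isLocalization i
  have := (G.oneDim i).noeth
  have : IsNoetherianRing (Localization.Away (G.w i)) :=
    isNoetherianRing_of_ringEquiv (G.A i)
      (IsLocalization.algEquiv (Submonoid.powers (G.w i)) (G.A i) (Localization.Away (G.w i))).toRingEquiv
  exact IsNoetherian.noetherian _

lemma oneDim_R [Nonempty ι] : IsOneDim G.R :=
  ⟨G.isFractionRing, G.isNoetherianRing, G.dimensionLEOne, G.not_isField⟩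

lemma ringKrullDim_eq_one [Nonempty ι] : ringKrullDim G.R = 1 := by
  have := G.dimensionLEOne
  refine le_antisymm (by exact_mod_cast (Ring.krullDimLE_iff (n := 1)).mp inferInstance) ?_
  obtain ⟨m, hm⟩ := Ideal.exists_maximal G.R
  refine Order.one_le_krullDim_iff.mpr ⟨⊥, ⟨m, hm.isPrime⟩, ?_⟩
  exact (Ring.ne_bot_of_isMaximal_of_not_isField hm G.not_isField).bot_lt

lemma existsUnique_range [Nonempty ι] (m : PrimeSpectrum G.R) (hm : m.asIdeal.IsMaximal) :
    ∃! i, m ∈ Set.range (Spec.map (CommRingCat.ofHom (G.incl i))).base := by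
  obtain ⟨i, hi⟩ := G.exists_notMem m.asIdeal
  refine ⟨i, (G.range_eq i).ge hi, fun j hj => ?_⟩
  have hj' : G.w j ∉ m.asIdeal := (G.range_eq j).le hj
  by_contra hne
  refine hj' (G.mem_of_notMem hne m.asIdeal ?_ hi)
  exact Ring.ne_bot_of_isMaximal_of_not_isField hm G.not_isField

lemma finite_maximalSpectrum [Nonempty ι] : Finite (MaximalSpectrum G.R) := by
  have := G.semilocal
  have h : ∀ m : MaximalSpectrum G.R, ∃ p : Σ i, MaximalSpectrum (G.A i),
      p.2.asIdeal.comap (G.incl p.1) = m.asIdeal := by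
    intro m
    have := m.isMaximal
    obtain ⟨i, hi⟩ := G.exists_notMem m.asIdeal
    obtain ⟨P, hP, hPp⟩ := G.exists_prime_over m.asIdeal hi
    exact ⟨⟨i, P, G.isMaximal_over (Ring.ne_bot_of_isMaximal_of_not_isField ‹_› G.not_isField) hP hPp⟩, hPp⟩
  choose f hf using h
  exact Finite.of_injective f fun a b hab => MaximalSpectrum.ext (by rw [← hf a, ← hf b, hab])

lemma exists_mul_pow_mem_of_ne {i j : ι} (hne : i ≠ j) (x : K) :
    ∃ n : ℕ, x * (G.w i : K) ^ n ∈ G.A j := by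
  have := (G.oneDim j).frac; have := (G.oneDim j).noeth; have := (G.oneDim j).dimLE
  obtain ⟨a, b, hb, hab⟩ := IsFractionRing.div_surjective (A := G.A j) x
  obtain ⟨n, hn⟩ := exists_jacobson_pow_le (nonZeroDivisors.ne_zero hb)
  obtain ⟨d, hd⟩ := Ideal.mem_span_singleton'.mp (hn (Ideal.pow_mem_pow (G.w_mem hne.symm) n))
  refine ⟨n, ?_⟩
  have hd' : (d : K) * (b : K) = (G.w i : K) ^ n := by
    have := congrArg Subtype.val hd
    simpa using this
  rw [← hab, ← hd']
  show (a : K) / (b : K) * ((d : K) * (b : K)) ∈ G.A j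
  have hb0 : (b : K) ≠ 0 := fun h => nonZeroDivisors.ne_zero hb (Subtype.ext h)
  rw [show (a : K) / (b : K) * ((d : K) * (b : K)) = (a : K) * (d : K) by field_simp]
  exact mul_mem a.2 d.2

lemma w_ne_zero (i : ι) : (G.w i : K) ≠ 0 := fun h => by
  have := G.isUnit_w i
  rw [show G.incl i (G.w i) = 0 from Subtype.ext h] at this
  exact not_isUnit_zero this

lemma isPushout {i j : ι} (hne : i ≠ j) :
    IsPushout (CommRingCat.ofHom (G.incl i)) (CommRingCat.ofHom (G.incl j))
      (CommRingCat.ofHom (G.A i).subtype) (CommRingCat.ofHom (G.A j).subtype) := by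
  let := (G.incl i).toAlgebra
  have := G.isLocalization i
  have : IsLocalization ((Submonoid.powers (G.w i)).map (G.incl j)) K := by
    refine (isLocalization_iff _ _).mpr ⟨?_, ?_, ?_⟩
    · rintro ⟨_, _, ⟨n, rfl⟩, rfl⟩
      show IsUnit ((G.incl j (G.w i ^ n) : G.A j) : K)
      rw [coe_incl, SubmonoidClass.coe_pow]
      exact (IsUnit.mk0 _ (G.w_ne_zero i)).pow n
    · intro z
      obtain ⟨n, hn⟩ := G.exists_mul_pow_mem_of_ne hne z
      refine ⟨⟨⟨_, hn⟩, ⟨G.incl j (G.w i ^ n), _, ⟨n, rfl⟩, rfl⟩⟩, ?_⟩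
      show z * (G.incl j (G.w i ^ n) : K) = z * (G.w i : K) ^ n
      rw [coe_incl, SubmonoidClass.coe_pow]
    · intro x y h
      exact ⟨1, by rw [show x = y from Subtype.ext h]⟩
  exact (CommRingCat.isPushout_of_isLocalization (G.incl j) (G.A i).subtype
    (RingHom.ext fun x => rfl) (Submonoid.powers (G.w i))).flip

end Glue

end GrothLib.SemiLoc
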