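import Groth.Agent.Lib.DVRDom.KrullAkizuki
import Mathlib.RingTheory.Valuation.LocalSubring
import Mathlib.RingTheory.Artinian.Ring
import Mathlib.RingTheory.OrderOfVanishing.Basic
import Mathlib.RingTheory.IntegralClosure.IsIntegral.Basic
import Mathlib.RingTheory.KrullDimension.Field

/-!
# Valuation subrings over one-dimensional Noetherian subrings of a field

A uniform bound for the orders of a fixed element at all valuation subrings containing a
one-dimensional Noetherian subring, and consequences.
-/

universe u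

namespace GrothLib.SemiLoc

open Module IsLocalRing
open scoped Pointwise

variable {K : Type u} [Field K]

/-- Standing hypotheses on a subring. -/
structure IsOneDim (B : Subring K) : Prop where
  frac : IsFractionRing B K
  noeth : IsNoetherianRing B
  dimLE : Ring.DimensionLEOne B
  notField : ¬ IsField B

lemma isOneDim_of_ringKrullDim_eq_one (B : Subring K) [IsFractionRing B K] [IsNoetherianRing B]
    (h : ringKrullDim B = 1) : IsOneDim B := by
  refine ⟨‹_›, ‹_›, ⟨fun {p} hp hp' => ?_⟩, fun hf => ?_⟩
  · have : Ring.KrullDimLE 1 B := Ring.krullDimLE_iff.mpr (by rw [h]; simp)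
    exact (Ring.krullDimLE_one_iff_of_noZeroDivisors.mp this) p hp hp'
  · rw [ringKrullDim_eq_zero_of_isField hf] at h
    exact zero_ne_one h

lemma IsOneDim.ne_top {B : Subring K} (hB : IsOneDim B) : B ≠ ⊤ := by
  rintro rfl
  exact hB.notField (MulEquiv.isField (Field.toIsField K) Subring.topEquiv.toMulEquiv)

lemma IsOneDim.exists_mem_ne_zero_jacobson {B : Subring K} (hB : IsOneDim B)
    (hsl : Finite (MaximalSpectrum B)) : ∃ x ∈ Ideal.jacobson (⊥ : Ideal B), x ≠ 0 := by
  classical
  have := Fintype.ofFinite (MaximalSpectrum B)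
  have h : (∏ m : MaximalSpectrum B, m.asIdeal) ≠ ⊥ := by
    rw [← Ideal.zero_eq_bot]
    exact Finset.prod_ne_zero_iff.mpr fun m _ h0 =>
      hB.notField (by
        have := m.isMaximal
        rw [h0, Ideal.zero_eq_bot] at this
        by_contra hf
        exact (Ring.ne_bot_of_isMaximal_of_not_isField this hf) rfl)
  obtain ⟨x, hx, hx0⟩ := Submodule.exists_mem_ne_zero_of_ne_bot h
  refine ⟨x, ?_, hx0⟩
  rw [Ideal.jacobson, Submodule.mem_sInf]
  rintro M ⟨-, hM⟩
  exact (Ideal.prod_le_inf.trans (Finset.inf_le (Finset.mem_univ ⟨M, hM⟩))) hx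

/-- In a one-dimensional Noetherian domain powers of the Jacobson radical lie in any nonzero
principal ideal. -/
lemma exists_jacobson_pow_le {C : Type*} [CommRing C] [IsDomain C] [IsNoetherianRing C]
    [Ring.DimensionLEOne C] {c : C} (hc : c ≠ 0) :
    ∃ n : ℕ, Ideal.jacobson (⊥ : Ideal C) ^ n ≤ Ideal.span {c} := by
  have hfin : IsFiniteLength C (C ⧸ Ideal.span {c}) :=
    Module.length_ne_top_iff.mp (Ring.ord_ne_top (mem_nonZeroDivisors_of_ne_zero hc))
  have : IsArtinian C (C ⧸ Ideal.span {c}) := (isFiniteLength_iff_isNoetherian_isArtinian.mp hfin).2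
  have : IsArtinianRing (C ⧸ Ideal.span {c}) := isArtinian_of_tower C this
  obtain ⟨n, hn⟩ := IsArtinianRing.isNilpotent_jacobson_bot (R := C ⧸ Ideal.span {c})
  refine ⟨n, ?_⟩
  rw [← Ideal.mk_ker (I := Ideal.span {c}), RingHom.ker, ← Ideal.map_le_iff_le_comap, Ideal.map_pow]
  refine (Ideal.pow_right_mono ?_ n).trans hn.le
  rw [Ideal.map_le_iff_le_comap]
  intro x hx
  rw [Ideal.mem_comap, Ideal.mem_jacobson_bot]
  intro y
  obtain ⟨y, rfl⟩ := Ideal.Quotient.mk_surjective y
  rw [← map_mul, ← map_one (Ideal.Quotient.mk (Ideal.span {c})), ← map_add]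
  exact (Ideal.mem_jacobson_bot.mp hx y).map _

/-- The order of a fixed element is bounded uniformly over all valuation subrings containing `B`. -/
lemma IsOneDim.exists_bound {B : Subring K} (hB : IsOneDim B) {b : B} (hb : b ≠ 0) :
    ∃ N : ℕ, ∀ V : ValuationSubring K, B ≤ V.toSubring → ∀ z : K, z ∉ V → ∀ n : ℕ,
      (b : K) * z ^ n ∈ V → n ≤ N := by
  have := hB.frac; have := hB.noeth; have := hB.dimLE
  obtain ⟨N, hN⟩ := ENat.ne_top_iff_exists.mp (Ring.ord_ne_top (mem_nonZeroDivisors_of_ne_zero hb))
  refine ⟨N, fun V hBV z hz n hn => ?_⟩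
  have hz0 : z ≠ 0 := fun h => hz (h ▸ V.zero_mem)
  set t := z⁻¹ with ht
  have htV : t ∈ V := (V.mem_or_inv_mem z).resolve_left hz
  have htu : ∀ v ∈ V, t * v ≠ 1 := by
    intro v hv h
    exact hz (by rw [show z = v by rw [← inv_inv z, ← ht]; exact inv_eq_of_mul_eq_one_right h]; exact hv)
  let Vm : Submodule B K :=
    { V.toSubring.toAddSubgroup with
      smul_mem' := fun r x hx => V.toSubring.mul_mem (hBV r.2) hx }
  let W : Submodule B K := Vm.map (b • (LinearMap.id : K →ₗ[B] K))
  let M : Submodule B K := Submodule.span B ((fun k => t ^ k) '' Set.Iio n)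
  have hMV : M ≤ Vm := Submodule.span_le.mpr (by rintro _ ⟨k, -, rfl⟩; exact pow_mem htV k)
  let P : ℕ → Submodule B (K ⧸ W) := fun i =>
    Submodule.span B ((fun k => W.mkQ (t ^ k)) '' Set.Ico i n)
  obtain ⟨j, hj⟩ := GrothLib.DVRDom.exists_injective_to_ring (R := B) M
    (Submodule.fg_span ((Set.finite_Iio n).image _))
  let φ : M →ₗ[B] B ⧸ (b • LinearMap.range j : Ideal B) := (Submodule.mkQ _).comp j
  let ψ : M →ₗ[B] K ⧸ W := W.mkQ.comp M.subtype
  have hker : LinearMap.ker φ ≤ LinearMap.ker ψ := by
    intro m hm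
    have hm' : j m ∈ (b • LinearMap.range j : Ideal B) := (Submodule.Quotient.mk_eq_zero _).mp hm
    obtain ⟨_, ⟨m', rfl⟩, hm''⟩ := hm'
    have : m = b • m' := hj (by rw [map_smul]; exact hm''.symm)
    subst this
    show W.mkQ ((b • m' : M) : K) = 0
    rw [Submodule.mkQ_apply, Submodule.Quotient.mk_eq_zero]
    exact ⟨m', hMV m'.2, rfl⟩
  have hψ : LinearMap.range ψ = P 0 := by
    rw [LinearMap.range_comp, Submodule.range_subtype, Submodule.map_span, ← Set.image_comp]
    simp only [P]
    rw [show Set.Ico 0 n = Set.Iio n from Set.ext fun k => by simp]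
    rfl
  have hrange : LinearMap.range φ =
      LinearMap.range ((Submodule.mkQ (b • LinearMap.range j : Ideal B)).comp (LinearMap.range j).subtype) := by
    rw [LinearMap.range_comp, LinearMap.range_comp, Submodule.range_subtype]
  have h1 : Module.length B (P 0) ≤ N := by
    calc Module.length B (P 0) = Module.length B (M ⧸ LinearMap.ker ψ) := by
          rw [← hψ, ψ.quotKerEquivRange.length_eq]
      _ ≤ Module.length B (M ⧸ LinearMap.ker φ) :=
        Module.length_le_of_surjective (Submodule.factor hker) (Submodule.factor_surjective hker)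
      _ = Module.length B (LinearMap.range φ) := φ.quotKerEquivRange.length_eq
      _ ≤ N := by rw [hrange, hN]; exact GrothLib.DVRDom.length_ideal_map_le hb _
  have hlow : ∀ m, m ≤ n → (m : ℕ∞) ≤ Module.length B (P (n - m)) := by
    intro m
    induction m with
    | zero => simp
    | succ m ih =>
      intro hm
      specialize ih (by omega)
      set i := n - (m + 1) with hi
      have hi' : n - m = i + 1 := by omega
      have hin : i < n := by omega
      rw [hi'] at ih
      have hsub : P (i + 1) ≤ P i := Submodule.span_mono (Set.image_mono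
        (Set.Ico_subset_Ico_left (by omega)))
      have hlt : P (i + 1) < P i := by
        refine lt_of_le_not_ge hsub fun hle => ?_
        have hti : W.mkQ (t ^ i) ∈ P (i + 1) :=
          hle (Submodule.subset_span ⟨i, ⟨le_rfl, hin⟩, rfl⟩)
        have hP : P (i + 1) ≤ (Vm.map ((LinearMap.mulLeft B (t ^ (i + 1))))).map W.mkQ := by
          refine Submodule.span_le.mpr ?_
          rintro _ ⟨k, ⟨hk, -⟩, rfl⟩
          refine ⟨t ^ k, ⟨t ^ (k - (i + 1)), pow_mem htV _, ?_⟩, rfl⟩
          show t ^ (i + 1) * t ^ (k - (i + 1)) = t ^ k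
          rw [← pow_add]; congr 1; omega
        obtain ⟨_, ⟨v, hv, rfl⟩, heq⟩ := hP hti
        rw [Submodule.mkQ_apply, Submodule.mkQ_apply, Submodule.Quotient.eq] at heq
        obtain ⟨v', hv', hv''⟩ := heq
        have hv3 : (b : K) * v' = t ^ (i + 1) * v - t ^ i := hv''
        have hbt : (b : K) = t ^ n * ((b : K) * z ^ n) := by
          rw [mul_left_comm, ← mul_pow, ht, inv_mul_cancel₀ hz0, one_pow, mul_one]
        have hpow : t ^ n = t ^ i * (t * t ^ (n - (i + 1))) := by
          rw [← pow_succ', ← pow_add]; congr 1; omega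
        refine htu (v - t ^ (n - (i + 1)) * ((b : K) * z ^ n) * v')
          (sub_mem hv (mul_mem (mul_mem (pow_mem htV _) hn) hv')) ?_
        apply mul_left_cancel₀ (pow_ne_zero i (inv_ne_zero hz0) : t ^ i ≠ 0)
        rw [hbt, hpow] at hv3
        linear_combination (norm := ring1) -hv3
      refine Order.add_one_le_of_lt (lt_of_le_of_lt ih ?_) |>.trans' (by push_cast; rfl)
      have hle0 : P i ≤ P 0 := Submodule.span_mono (Set.image_mono (Set.Ico_subset_Ico_left (Nat.zero_le i)))
      have hne : Module.length B (P i) ≠ ⊤ := ne_top_of_le_ne_top (ENat.natCast_ne_top N)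
        ((Module.length_le_of_injective (Submodule.inclusion hle0) (Submodule.inclusion_injective hle0)).trans h1)
      obtain ⟨_, _⟩ := isFiniteLength_iff_isNoetherian_isArtinian.mp (Module.length_ne_top_iff.mp hne)
      have hne' : Submodule.comap (P i).subtype (P (i + 1)) ≠ ⊤ := fun h =>
        hlt.not_ge fun x hx => (h.ge (Submodule.mem_top (x := (⟨x, hx⟩ : P i))) :)
      refine lt_of_le_of_lt ?_ (Submodule.length_lt hne')
      exact Module.length_le_of_injective ((Submodule.inclusion hsub).codRestrict _ fun x => x.2)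
        (fun x y h => Submodule.inclusion_injective hsub (congrArg Subtype.val h))
  have h2 := hlow n le_rfl
  rw [Nat.sub_self] at h2
  exact_mod_cast h2.trans h1

end GrothLib.SemiLoc
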