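import Groth.Agent.Lib.SemiLoc.Bound
import Mathlib.RingTheory.DedekindDomain.Basic
import Mathlib.RingTheory.Ideal.GoingUp

/-!
# Units of one semilocal subring lying in the radicals of others
-/

universe u

namespace GrothLib.SemiLoc

open IsLocalRing

variable {K : Type u} [Field K]

lemma IsOneDim.mem_span_ne_bot_of_valuation {B : Subring K} (hB : IsOneDim B)
    (V : ValuationSubring K) (hBV : B ≤ V.toSubring) (hV : V ≠ ⊤) :
    (maximalIdeal V).comap (Subring.inclusion hBV) ≠ ⊥ := by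
  have := hB.frac
  intro h
  apply hV
  ext z
  refine ⟨fun _ => trivial, fun _ => ?_⟩
  obtain ⟨a, b, hb, rfl⟩ := IsFractionRing.div_surjective (A := B) z
  have hu : IsUnit (Subring.inclusion hBV b : V) := by
    by_contra hu
    have : b ∈ (maximalIdeal V).comap (Subring.inclusion hBV) := (mem_maximalIdeal _).mpr hu
    rw [h, Submodule.mem_bot] at this
    exact nonZeroDivisors.ne_zero hb this
  obtain ⟨v, hv⟩ := hu.exists_right_inv
  rw [div_eq_mul_inv]
  refine V.mul_mem _ _ (hBV a.2) ?_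
  show ((b : K))⁻¹ ∈ V
  rw [inv_eq_of_mul_eq_one_right (show (b : K) * (v : K) = 1 from congrArg Subtype.val hv)]
  exact v.2

/-- An element of the Jacobson radical is a non-unit in all nontrivial valuation rings. -/
lemma IsOneDim.inv_notMem {B : Subring K} (hB : IsOneDim B) {x : B}
    (hx : x ∈ Ideal.jacobson (⊥ : Ideal B)) (hx0 : x ≠ 0)
    (V : ValuationSubring K) (hBV : B ≤ V.toSubring) (hV : V ≠ ⊤) : (x : K)⁻¹ ∉ V := by
  have := hB.dimLE
  intro h
  have hp := (((maximalIdeal V).comap_isPrime (Subring.inclusion hBV))).isMaximal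
    (hB.mem_span_ne_bot_of_valuation V hBV hV)
  have hxp : x ∈ (maximalIdeal V).comap (Subring.inclusion hBV) :=
    Submodule.mem_sInf.mp hx _ ⟨bot_le, hp⟩
  exact (mem_maximalIdeal _).mp (Ideal.mem_comap.mp hxp)
    (isUnit_iff_exists_inv.mpr ⟨⟨_, h⟩, Subtype.ext (mul_inv_cancel₀ (by simpa using hx0))⟩)

/-- Finitely many multiples of a nonzero element of `A` detect all valuation rings over `B`. -/
lemma exists_finset_detect' {A B : Subring K} (hB : IsOneDim B) (hBsl : Finite (MaximalSpectrum B))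
    (hgen : A ⊔ B = ⊤) (j : A) (hj0 : j ≠ 0) :
    ∃ ys : Finset A, (∀ y ∈ ys, ∃ a, y = j * a) ∧
      ∀ V : ValuationSubring K, B ≤ V.toSubring → V ≠ ⊤ → ∃ y ∈ ys, (y : K) ∉ V := by
  classical
  obtain ⟨x, hx, hx0⟩ := hB.exists_mem_ne_zero_jacobson hBsl
  have hspan : ∀ z : K, z ∈ Submodule.span B (A : Set K) := by
    intro z
    have hz : z ∈ Algebra.adjoin B (A : Set K) := by
      have hle : A ⊔ B ≤ (Algebra.adjoin B (A : Set K)).toSubring :=
        sup_le (fun a ha => Algebra.subset_adjoin ha)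
          fun b hb => (Algebra.adjoin B (A : Set K)).algebraMap_mem ⟨b, hb⟩
      rw [hgen] at hle
      exact hle (Subring.mem_top z)
    rw [← Subalgebra.mem_toSubmodule, Algebra.adjoin_eq_span] at hz
    have hA' : (Submonoid.closure (A : Set K) : Set K) = A := by
      rw [show (A : Set K) = (A.toSubmonoid : Set K) from rfl, Submonoid.closure_eq]
    rwa [hA'] at hz
  obtain ⟨T, hTA, hT⟩ := Submodule.mem_span_finite_of_mem_span (hspan (((x : K) * (j : K))⁻¹))
  refine ⟨T.attach.image (fun a => j * ⟨a.1, hTA a.2⟩), ?_, ?_⟩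
  · intro y hy
    obtain ⟨a, -, rfl⟩ := Finset.mem_image.mp hy
    exact ⟨_, rfl⟩
  · intro V hBV hV
    by_contra! h
    refine hB.inv_notMem hx hx0 V hBV hV ?_
    have hall : ∀ z ∈ Submodule.span B (T : Set K), (j : K) * z ∈ V := by
      intro z hz
      induction hz using Submodule.span_induction with
      | mem a ha => exact h (j * ⟨a, hTA ha⟩) (Finset.mem_image.mpr ⟨⟨a, ha⟩, Finset.mem_attach _ _, rfl⟩)
      | zero => rw [mul_zero]; exact V.zero_mem
      | add a b _ _ ha hb => rw [mul_add]; exact V.add_mem _ _ ha hb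
      | smul r a _ ha =>
        show (j : K) * ((r : K) * a) ∈ V
        rw [mul_left_comm]; exact V.mul_mem _ _ (hBV r.2) ha
    have := hall _ hT
    rwa [mul_inv_rev, ← mul_assoc, mul_inv_cancel₀ (by simpa using hj0), one_mul] at this

/-- Finitely many elements of the radical of `A` detect all valuation rings over `B`. -/
lemma exists_finset_detect {A B : Subring K} (hA : IsOneDim A) (hB : IsOneDim B)
    (hAsl : Finite (MaximalSpectrum A)) (hBsl : Finite (MaximalSpectrum B)) (hgen : A ⊔ B = ⊤) :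
    ∃ ys : Finset A, (∀ y ∈ ys, y ∈ Ideal.jacobson (⊥ : Ideal A)) ∧
      ∀ V : ValuationSubring K, B ≤ V.toSubring → V ≠ ⊤ → ∃ y ∈ ys, (y : K) ∉ V := by
  obtain ⟨j, hj, hj0⟩ := hA.exists_mem_ne_zero_jacobson hAsl
  obtain ⟨ys, hys, h⟩ := exists_finset_detect' hB hBsl hgen j hj0
  exact ⟨ys, fun y hy => by obtain ⟨a, rfl⟩ := hys y hy; exact Ideal.mul_mem_right _ _ hj, h⟩

/-- Finitely many elements can be combined to one. -/
lemma exists_combine {ι : Type*} [Finite ι] {A : Subring K} (B : ι → Subring K)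
    (hB : ∀ i, IsOneDim (B i)) (I : Ideal A) (ys : Finset A) (hys : ∀ y ∈ ys, y ∈ I) :
    ∃ y ∈ I, ∀ i, ∀ V : ValuationSubring K, B i ≤ V.toSubring →
      (∃ z ∈ ys, (z : K) ∉ V) → (y : K) ∉ V := by
  classical
  induction ys using Finset.induction with
  | empty => exact ⟨0, I.zero_mem, fun i V _ ⟨z, hz, _⟩ => absurd hz (Finset.notMem_empty z)⟩
  | insert y₂ s hs ih =>
    obtain ⟨y₁, hy₁, h₁⟩ := ih fun y hy => hys y (Finset.mem_insert_of_mem hy)
    have hy₂ := hys y₂ (Finset.mem_insert_self _ _)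
    have : ∀ i, ∃ N₀ : ℕ, ∀ V : ValuationSubring K, B i ≤ V.toSubring → (y₂ : K) ∉ V →
        ∀ N, N₀ < N → (y₁ : K) + (y₂ : K) ^ N ∉ V := by
      intro i
      have := (hB i).frac
      obtain ⟨a, b, hb, hab⟩ := IsFractionRing.div_surjective (A := B i) (y₁ : K)
      obtain ⟨N₀, hN₀⟩ := (hB i).exists_bound (nonZeroDivisors.ne_zero hb)
      refine ⟨N₀, fun V hV hy N hN h => ?_⟩
      have hb0 : (b : K) ≠ 0 := fun h => nonZeroDivisors.ne_zero hb (Subtype.ext h)
      have h2 : (b : K) * (y₂ : K) ^ N ∈ V := by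
        have h3 : (b : K) * ((y₁ : K) + (y₂ : K) ^ N) - (a : K) ∈ V.toSubring :=
          V.toSubring.sub_mem (V.mul_mem _ _ (hV b.2) h) (hV a.2)
        rw [← hab] at h3
        have e : (b : K) * (algebraMap (B i) K a / algebraMap (B i) K b + (y₂ : K) ^ N) - (a : K)
            = (b : K) * (y₂ : K) ^ N := by
          show (b : K) * ((a : K) / (b : K) + (y₂ : K) ^ N) - (a : K) = _
          field_simp
          ring
        rwa [e] at h3
      exact absurd (hN₀ V hV _ hy N h2) (not_le.mpr hN)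
    choose N₀ hN₀ using this
    have := Fintype.ofFinite ι
    let N := Finset.univ.sup N₀ + 1
    refine ⟨y₁ + y₂ ^ N, I.add_mem hy₁ (I.pow_mem_of_mem hy₂ _ (Nat.succ_pos _)), ?_⟩
    intro i V hV hz
    rcases em ((y₂ : K) ∈ V) with h | h
    · obtain ⟨z, hz, hzV⟩ := hz
      rcases Finset.mem_insert.mp hz with rfl | hz
      · exact absurd h hzV
      · intro hc
        refine h₁ i V hV ⟨z, hz, hzV⟩ ?_
        have := sub_mem hc (pow_mem h N)
        simpa using this
    · have := hN₀ i V hV h N (Nat.lt_succ_of_le (Finset.le_sup (Finset.mem_univ i)))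
      simpa using this

/-- An element that is a non-unit in all valuation rings over `B` has a power in the radical. -/
lemma IsOneDim.exists_pow_mem_jacobson {B : Subring K} (hB : IsOneDim B) {w : K}
    (hw : ∀ V : ValuationSubring K, B ≤ V.toSubring → V ≠ ⊤ → w⁻¹ ∉ V) :
    ∃ n, 0 < n ∧ ∃ b ∈ Ideal.jacobson (⊥ : Ideal B), (b : K) = w ^ n := by
  classical
  have := hB.frac; have := hB.noeth; have := hB.dimLE
  have hint : IsIntegral B w := by
    have hmem : w ∈ (integralClosure (Subring.closure (B : Set K)) K).toSubring := by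
      rw [← iInf_valuationSubring_superset, Subring.mem_iInf]
      rintro ⟨V, hV⟩
      rcases eq_or_ne V ⊤ with rfl | hne
      · exact trivial
      · exact (V.mem_or_inv_mem w).resolve_right (hw V hV hne)
    rw [show Subring.closure (B : Set K) = B from Subring.closure_eq B] at hmem
    exact hmem
  let C := Algebra.adjoin B {w}
  have : Module.Finite B C := Module.Finite.iff_fg.mpr hint.fg_adjoin_singleton
  have : IsNoetherianRing C := isNoetherianRing_of_fg ⟨{w}, by simp [C]⟩
  have : Algebra.IsIntegral B C := inferInstance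
  have : Ring.DimensionLEOne C := Ring.DimensionLEOne.of_isIntegral B C
  obtain ⟨s, hs⟩ := hint.fg_adjoin_singleton
  obtain ⟨⟨c, hc⟩, hcs⟩ := IsLocalization.exist_integer_multiples_of_finset (nonZeroDivisors B) s
  have hcC : ∀ z ∈ C, ∃ b : B, (b : K) = (c : K) * z := by
    intro z hz
    have hz' : z ∈ Submodule.span B (s : Set K) := by rw [hs]; exact hz
    induction hz' using Submodule.span_induction with
    | mem a ha => obtain ⟨r, hr⟩ := hcs a ha; exact ⟨r, hr⟩
    | zero => exact ⟨0, by simp⟩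
    | add a b ha hb iha ihb =>
      obtain ⟨r₁, h₁⟩ := iha (hs.le ha)
      obtain ⟨r₂, h₂⟩ := ihb (hs.le hb)
      exact ⟨r₁ + r₂, by rw [Subring.coe_add, h₁, h₂, mul_add]⟩
    | smul r a ha iha =>
      obtain ⟨r₁, h₁⟩ := iha (hs.le ha)
      exact ⟨r * r₁, by rw [Subring.coe_mul, h₁]; show _ = (c : K) * ((r : K) * a); ring⟩
  have hcC0 : algebraMap B C c ≠ 0 := fun h =>
    nonZeroDivisors.ne_zero hc (Subtype.ext (congrArg (fun x : C => (x : K)) h))
  let wC : C := ⟨w, Algebra.self_mem_adjoin_singleton B w⟩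
  have hwM : ∀ M : Ideal C, M.IsMaximal → wC ∈ M := by
    intro M hM
    by_contra hwM
    obtain ⟨d, m, hm, hdm⟩ := hM.exists_inv hwM
    have hMbot : M ≠ ⊥ := by
      intro h
      refine hB.notField (isField_of_isIntegral_of_isField (S := C) (fun a b h => Subtype.ext
        (congrArg Subtype.val h :)) ?_)
      by_contra hf
      exact Ring.ne_bot_of_isMaximal_of_not_isField hM hf h
    obtain ⟨V, hCV, hMV⟩ := Ideal.image_subset_nonunits_valuationSubring (A := C.toSubring) M hM.ne_top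
    have hnu : ∀ y : C, y ∈ M → (y : K) ∈ V.nonunits := fun y hy => hMV ⟨y, hy, rfl⟩
    have hV : V ≠ ⊤ := by
      rintro rfl
      obtain ⟨y, hy, hy0⟩ := Submodule.exists_mem_ne_zero_of_ne_bot hMbot
      obtain ⟨_, h⟩ := ValuationSubring.mem_nonunits_iff_exists_mem_maximalIdeal.mp (hnu y hy)
      exact (mem_maximalIdeal _).mp h (isUnit_iff_exists_inv.mpr
        ⟨⟨(y : K)⁻¹, trivial⟩, Subtype.ext (mul_inv_cancel₀ (fun h0 => hy0 (Subtype.ext h0)))⟩)
    have hBV : B ≤ V.toSubring := fun b hb => hCV (C.algebraMap_mem ⟨b, hb⟩)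
    obtain ⟨hmV, hm'⟩ := ValuationSubring.mem_nonunits_iff_exists_mem_maximalIdeal.mp (hnu m hm)
    have hwV : w ∈ V := hCV wC.2
    have hdV : (d : K) ∈ V := hCV d.2
    have hsum : (⟨(d : K), hdV⟩ * ⟨w, hwV⟩ + ⟨(m : K), hmV⟩ : V) = 1 :=
      Subtype.ext (congrArg (fun x : C => (x : K)) hdm)
    have hwm : (⟨w, hwV⟩ : V) ∈ maximalIdeal V := (mem_maximalIdeal _).mpr fun hu => by
      obtain ⟨v, hv⟩ := hu.exists_right_inv
      refine hw V hBV hV ?_
      rw [inv_eq_of_mul_eq_one_right (show w * (v : K) = 1 from congrArg Subtype.val hv)]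
      exact v.2
    refine (maximalIdeal.isMaximal V).ne_top ((Ideal.eq_top_iff_one _).mpr ?_)
    rw [← hsum]
    exact add_mem (Ideal.mul_mem_left _ _ hwm) hm'
  obtain ⟨n, hn⟩ := exists_jacobson_pow_le hcC0
  have hwJ : wC ∈ Ideal.jacobson (⊥ : Ideal C) := Submodule.mem_sInf.mpr fun M hM => hwM M hM.2
  obtain ⟨d, hd⟩ := Ideal.mem_span_singleton'.mp (hn (Ideal.pow_mem_pow hwJ n))
  obtain ⟨b, hb⟩ := hcC ((d * wC : C) : K) (d * wC).2
  have hbw : (b : K) = w ^ (n + 1) := by
    rw [hb, pow_succ]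
    have := congrArg Subtype.val hd
    simp only [MulMemClass.coe_mul, SubmonoidClass.coe_pow] at this ⊢
    rw [show ((algebraMap B C c : C) : K) = (c : K) from rfl] at this
    rw [← this]
    show (c : K) * ((d : K) * w) = (d : K) * (c : K) * w
    ring
  refine ⟨n + 1, Nat.succ_pos n, b, Submodule.mem_sInf.mpr fun m hm => ?_, hbw⟩
  have := hm.2
  obtain ⟨M, hM, hMm⟩ := Ideal.exists_ideal_over_maximal_of_isIntegral (S := C) m (fun z hz => by
    rw [RingHom.mem_ker] at hz
    rw [show z = 0 from Subtype.ext (congrArg (fun x : C => (x : K)) hz)]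
    exact m.zero_mem)
  rw [← hMm, Ideal.mem_comap, show algebraMap B C b = wC ^ (n + 1) from Subtype.ext (by
    simp only [SubmonoidClass.coe_pow]; exact hbw)]
  exact M.pow_mem_of_mem (hwM M hM) _ (Nat.succ_pos n)

/-- For pairwise generating semilocal subrings: a unit of `A` lying in the radicals of the `B`s. -/
lemma exists_unit_mem_jacobson {ι : Type*} [Finite ι] {A : Subring K} (B : ι → Subring K)
    (hA : IsOneDim A) (hB : ∀ i, IsOneDim (B i)) (hAsl : Finite (MaximalSpectrum A))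
    (hBsl : ∀ i, Finite (MaximalSpectrum (B i))) (hgen : ∀ i, A ⊔ B i = ⊤) :
    ∃ w : A, IsUnit w ∧ ∀ i, ∃ b ∈ Ideal.jacobson (⊥ : Ideal (B i)), (b : K) = w := by
  classical
  choose ys hys hdet using fun i => exists_finset_detect hA (hB i) hAsl (hBsl i) (hgen i)
  have := Fintype.ofFinite ι
  obtain ⟨y, hy, hyV⟩ := exists_combine B hB (Ideal.jacobson (⊥ : Ideal A)) (Finset.univ.biUnion ys)
    (fun z hz => by obtain ⟨i, -, hz⟩ := Finset.mem_biUnion.mp hz; exact hys i z hz)
  have hu : IsUnit (1 + y) := by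
    have := Ideal.mem_jacobson_bot.mp hy 1
    rwa [mul_one, add_comm] at this
  obtain ⟨w₀, hw₀⟩ := hu.exists_left_inv
  have hw₀u : IsUnit w₀ := IsUnit.of_mul_eq_one _ hw₀
  have key : ∀ i, ∀ V : ValuationSubring K, B i ≤ V.toSubring → V ≠ ⊤ → (w₀ : K)⁻¹ ∉ V := by
    intro i V hV hne h
    obtain ⟨z, hz, hzV⟩ := hdet i V hV hne
    refine hyV i V hV ⟨z, Finset.mem_biUnion.mpr ⟨i, Finset.mem_univ _, hz⟩, hzV⟩ ?_
    rw [inv_eq_of_mul_eq_one_right (show (w₀ : K) * ((1 + y : A) : K) = 1 from congrArg Subtype.val hw₀)] at h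
    have := sub_mem h V.one_mem
    simpa using this
  choose n hn b hb hbw using fun i => (hB i).exists_pow_mem_jacobson (key i)
  refine ⟨w₀ ^ (∏ i, n i) , hw₀u.pow _, fun i => ?_⟩
  refine ⟨b i ^ ((∏ j, n j) / n i), Ideal.pow_mem_of_mem _ (hb i) _ ?_, ?_⟩
  · exact Nat.div_pos (Nat.le_of_dvd (Finset.prod_pos fun j _ => by simpa using hn j)
      (Finset.dvd_prod_of_mem n (Finset.mem_univ i))) (hn i)
  · simp only [SubmonoidClass.coe_pow]
    rw [hbw, ← pow_mul, Nat.mul_div_cancel' (Finset.dvd_prod_of_mem n (Finset.mem_univ i))]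

end GrothLib.SemiLoc
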